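import Groth.Agent.LGlob19.Zero
import Groth.Agent.PDual19.ExtAux
import Groth.Agent.RD97.LES
import Mathlib.Algebra.Homology.DerivedCategory.Ext.EnoughInjectives

/-!
# `Ext^m(F, G) ≅ H^0(𝓔xt^m(F, G))` when the lower Ext sheaves are acyclic
-/

universe u

open CategoryTheory Limits AlgebraicGeometry Opposite Abelian

set_option autoImplicit false
set_option maxSynthPendingDepth 6
set_option maxHeartbeats 1000000
set_option synthInstance.maxHeartbeats 800000
set_option backward.isDefEq.respectTransparency.types false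

noncomputable section

namespace Groth.Agent.LGlob19

open QC70

variable {X : Scheme.{u}} (R : Type u) [CommRing R] [X.Over (Spec (CommRingCat.of R))]

section HH

variable {S : ShortComplex X.Modules} (hS : S.ShortExact)
include hS

theorem bijective_hδ (n : ℕ) (h₁ : Subsingleton (Coh.HH X S.X₂ n))
    (h₂ : Subsingleton (Coh.HH X S.X₂ (n + 1))) : Function.Bijective (Crv77.hδ R hS n) := by
  refine ⟨(injective_iff_map_eq_zero _).mpr fun x hx => ?_, fun y => (Crv77.exact_δ_f R hS n y).1 (Subsingleton.elim _ _)⟩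
  obtain ⟨z, rfl⟩ := (Crv77.exact_g_δ R hS n x).1 hx
  rw [Subsingleton.elim z 0, map_zero]

include R in
theorem subsingleton_X₃ (n : ℕ) (h₂ : Subsingleton (Coh.HH X S.X₂ n))
    (h₁ : Subsingleton (Coh.HH X S.X₁ (n + 1))) : Subsingleton (Coh.HH X S.X₃ n) :=
  subsingleton_of_forall_eq 0 fun x => by
    obtain ⟨z, rfl⟩ := (Crv77.exact_g_δ R hS n x).1 (Subsingleton.elim _ _)
    rw [Subsingleton.elim z 0, map_zero]

include R in
theorem subsingleton_X₂ (n : ℕ) (h₁ : Subsingleton (Coh.HH X S.X₁ n))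
    (h₃ : Subsingleton (Coh.HH X S.X₃ n)) : Subsingleton (Coh.HH X S.X₂ n) :=
  subsingleton_of_forall_eq 0 fun x => by
    obtain ⟨z, rfl⟩ := (Crv77.exact_f_g R hS n x).1 (Subsingleton.elim _ _)
    rw [Subsingleton.elim z 0, map_zero]

theorem surjective_g (n : ℕ) (h₁ : Subsingleton (Coh.HH X S.X₁ (n + 1))) :
    Function.Surjective (Crv77.hmap R S.g n) :=
  fun x => (Crv77.exact_g_δ R hS n x).1 (Subsingleton.elim _ _)

end HH

variable [HasInjectiveResolutions X.Modules] (F : X.Modules)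

/-- `𝓔xt^m(F, -)` as derived functors of the concrete `𝓗om(F, -)`. -/
def extS (m : ℕ) : X.Modules ⥤ X.Modules :=
  haveI : (homFunctor F).Additive := (homModAdj F).right_adjoint_additive
  (homFunctor F).rightDerived m

/-- `𝓔xt^0 = 𝓗om`. -/
def extS₀ : extS F 0 ≅ homFunctor F :=
  haveI : (homFunctor F).Additive := (homModAdj F).right_adjoint_additive
  haveI : PreservesFiniteLimits (homFunctor F) :=
    haveI := (homModAdj F).rightAdjoint_preservesLimits.{0, 0}
    Limits.PreservesLimitsOfSize0.preservesFiniteLimits _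
  (homFunctor F).rightDerivedZeroIsoSelf

theorem isZero_extS_injective (m : ℕ) (I : X.Modules) [Injective I] : IsZero ((extS F (m + 1)).obj I) :=
  haveI : (homFunctor F).Additive := (homModAdj F).right_adjoint_additive
  (homFunctor F).isZero_rightDerived_obj_injective_succ m I

theorem hmap_zero {M N : X.Modules} (p : ℕ) (x : Coh.HH X M p) :
    Crv77.hmap R (0 : M ⟶ N) p x = 0 := by
  change Ext.comp x (Ext.mk₀ ((Crv77.toAbF X).map (0 : M ⟶ N))) (add_zero p) = 0
  have h0 : (Crv77.toAbF X).map (0 : M ⟶ N) = 0 := Functor.map_zero _ _ _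
  exact (congrArg (fun f => Ext.comp x (Ext.mk₀ f) (add_zero p)) h0).trans
    ((congrArg (fun y => Ext.comp x y (add_zero p)) (Ext.mk₀_zero _ _)).trans (Ext.comp_zero _ _ _ _ _))

/-- Acyclicity of the Ext sheaves below degree `m`. -/
def AcBelow (G : X.Modules) (m : ℕ) : Prop :=
  ∀ j, j < m → ∀ p, 0 < p → Subsingleton (Coh.HH X ((extS F j).obj G) p)

variable [HasExt.{u} X.Modules]

/-- `Hom(F, G) ≅ H^0` of the value of the functor. -/
def e₀' [HasExt.{u} X.Modules] (G : X.Modules) : (F ⟶ G) ≃ₗ[R] Coh.HH X ((homFunctor F).obj G) 0 :=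
  e₀ R F G

theorem e₀'_comp [HasExt.{u} X.Modules] {G G' : X.Modules} (φ : F ⟶ G) (g : G ⟶ G') :
    e₀' R F G' (φ ≫ g) = Crv77.hmap R ((homFunctor F).map g) 0 (e₀' R F G φ) :=
  e₀_comp R F φ g

/-- The comparison. -/
theorem nonempty_equiv : ∀ (m : ℕ) (G : X.Modules), AcBelow F G m →
    Nonempty (Ext F G m ≃ₗ[R] Coh.HH X ((extS F m).obj G) 0) := by
  haveI : (homFunctor F).Additive := (homModAdj F).right_adjoint_additive
  haveI : PreservesFiniteLimits (homFunctor F) :=
    haveI := (homModAdj F).rightAdjoint_preservesLimits.{0, 0}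
    Limits.PreservesLimitsOfSize0.preservesFiniteLimits _
  haveI : EnoughInjectives X.Modules := ⟨fun M => by
    let P := injectiveResolution M
    haveI h : Mono (P.ι.f 0) := by infer_instance
    exact ⟨⟨P.cocomplex.X 0, P.injective 0, P.ι.f 0, h⟩⟩⟩
  obtain ⟨Δ⟩ := RD97.nonempty_derivedLES (homFunctor F)
  intro m
  induction m with
  | zero => exact fun G _ => ⟨Ext.linearEquiv₀.trans ((e₀' R F G).trans (Crv77.hEquiv R ((extS₀ F).app G).symm 0))⟩
  | succ m IH =>
    intro G hG
    let S : ShortComplex X.Modules :=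
      ShortComplex.mk (Injective.ι G) (cokernel.π (Injective.ι G)) (cokernel.condition _)
    have hS : S.ShortExact :=
      { exact := ShortComplex.exact_of_g_is_cokernel _ (cokernelIsCokernel _) }
    haveI hI : Injective S.X₂ := inferInstanceAs (Injective (Injective.under G))
    let η := extS₀ F
    -- the sequence of Ext sheaves in low degrees
    let δ : (homFunctor F).obj S.X₃ ⟶ (extS F 1).obj G := (η.app S.X₃).inv ≫ Δ.δ S hS 0 1 rfl
    have hΔ : Epi (Δ.δ S hS 0 1 rfl) :=
      (Δ.exact₁ S hS 0 1 rfl).epi_f ((isZero_extS_injective F 0 S.X₂).eq_of_tgt _ _)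
    haveI : Epi δ :=
      @epi_comp _ _ _ _ _ (η.app S.X₃).inv inferInstance (Δ.δ S hS 0 1 rfl) hΔ
    have hgδ : (homFunctor F).map S.g ≫ δ = 0 := by
      change (homFunctor F).map S.g ≫ η.inv.app S.X₃ ≫ _ = 0
      rw [← Category.assoc]
      refine (congrArg (· ≫ _) (η.inv.naturality S.g)).trans ?_
      rw [Category.assoc]
      exact (congrArg (_ ≫ ·) (Δ.comp_δ S hS 0 1 rfl)).trans comp_zero
    let g' : (homFunctor F).obj S.X₂ ⟶ kernel δ := kernel.lift δ ((homFunctor F).map S.g) hgδ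
    have hS₂ : (ShortComplex.mk (kernel.ι δ) δ (kernel.condition δ)).ShortExact :=
      { exact := ShortComplex.exact_of_f_is_kernel _ (kernelIsKernel δ) }
    have hex : (ShortComplex.mk ((homFunctor F).map S.g) δ hgδ).Exact := by
      refine ShortComplex.exact_of_iso ?_ (Δ.exact₃ S hS 0 1 rfl)
      refine ShortComplex.isoMk (η.app S.X₂) (η.app S.X₃) (Iso.refl _) (η.hom.naturality S.g).symm ?_
      change (η.app S.X₃).hom ≫ δ = Δ.δ S hS 0 1 rfl ≫ 𝟙 _
      rw [Category.comp_id]
      exact Iso.hom_inv_id_assoc (η.app S.X₃) _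
    haveI : Epi g' := hex.epi_kernelLift
    have hf0 : (homFunctor F).map S.f ≫ g' = 0 := by
      rw [← cancel_mono (kernel.ι δ), Category.assoc, kernel.lift_ι, zero_comp, ← Functor.map_comp, S.zero,
        Functor.map_zero]
    have hS₁ : (ShortComplex.mk ((homFunctor F).map S.f) g' hf0).ShortExact := by
      haveI := hS.mono_f
      haveI : Mono ((homFunctor F).map S.f) := inferInstance
      refine { exact := ?_, epi_g := ‹Epi g'› }
      let Φ : ShortComplex.mk ((homFunctor F).map S.f) g' hf0 ⟶ S.map (homFunctor F) :=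
        { τ₁ := 𝟙 _, τ₂ := 𝟙 _, τ₃ := kernel.ι δ,
          comm₁₂ := (Category.id_comp _).trans (Category.comp_id _).symm, comm₂₃ := (Category.id_comp _).trans (kernel.lift_ι _ _ _).symm }
      haveI : Epi Φ.τ₁ := inferInstanceAs (Epi (𝟙 _))
      haveI : IsIso Φ.τ₂ := inferInstanceAs (IsIso (𝟙 _))
      haveI : Mono Φ.τ₃ := inferInstanceAs (Mono (kernel.ι δ))
      exact (ShortComplex.exact_iff_of_epi_of_isIso_of_mono Φ).2
        (((Functor.preservesFiniteLimits_iff_forall_exact_map_and_mono _).mp inferInstance) S hS).1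
    have h0 : ∀ p, 0 < p → Subsingleton (Coh.HH X ((homFunctor F).obj G) p) := fun p hp => by
      haveI := hG 0 (Nat.succ_pos m) p hp
      exact (Crv77.hEquiv R (η.app G) p).symm.toEquiv.subsingleton
    have hK : ∀ p, 0 < p → Subsingleton (Coh.HH X (kernel δ) p) := fun p hp =>
      subsingleton_X₃ R hS₁ p ((subsingleton_hh_homMod R F S.X₂ hp : Subsingleton (Coh.HH X ((homFunctor F).obj S.X₂) p))) (h0 (p + 1) (Nat.succ_pos p))
    haveI : Subsingleton (Ext F S.X₂ (m + 1)) := Ext.subsingleton_of_injective F S.X₂ m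
    let ρ : Ext F S.X₃ m →ₗ[R] Ext F G (m + 1) := hS.extClass.postcompOfLinear R F rfl
    have hρ : Function.Surjective ρ := fun x =>
      Ext.covariant_sequence_exact₁ F hS x (Subsingleton.elim _ _) rfl
    rcases Nat.eq_zero_or_pos m with rfl | hm
    · let f : (F ⟶ S.X₃) →ₗ[R] Ext F G 1 := ρ.comp Ext.linearEquiv₀.symm.toLinearMap
      let g : (F ⟶ S.X₃) →ₗ[R] Coh.HH X ((extS F 1).obj G) 0 :=
        (Crv77.hmap R δ 0).comp (e₀' R F S.X₃).toLinearMap
      refine PDual19.nonempty_equiv_of_ker_eq R f g (hρ.comp Ext.linearEquiv₀.symm.surjective)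
        ((surjective_g R hS₂ 0 (hK 1 Nat.one_pos)).comp (e₀' R F S.X₃).surjective) fun φ => ?_
      constructor
      · intro hφ
        obtain ⟨y, hy⟩ := Ext.covariant_sequence_exact₃ F hS (Ext.mk₀ φ) rfl hφ
        obtain ⟨ψ, rfl⟩ := Ext.addEquiv₀.symm.surjective y
        have hψ : ψ ≫ S.g = φ := Ext.addEquiv₀.symm.injective ((Ext.mk₀_comp_mk₀ ψ S.g).symm.trans hy)
        subst hψ
        change Crv77.hmap R δ 0 (e₀' R F S.X₃ (ψ ≫ S.g)) = 0
        rw [e₀'_comp, Crv77.hmap_comp, hgδ]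
        exact hmap_zero R 0 _
      · intro hg
        obtain ⟨z, hz⟩ := (Crv77.exact_f_g R hS₂ 0 (e₀' R F S.X₃ φ)).1 hg
        obtain ⟨w, rfl⟩ := surjective_g R hS₁ 0 (h0 1 Nat.one_pos) z
        obtain ⟨ψ, rfl⟩ := (e₀' R F S.X₂).surjective w
        have hψ : ψ ≫ S.g = φ := (e₀' R F S.X₃).injective (by
          rw [e₀'_comp, ← hz]
          change _ = Crv77.hmap R (kernel.ι δ) 0 (Crv77.hmap R g' 0 _)
          rw [Crv77.hmap_comp, kernel.lift_ι])
        subst hψ
        change (Ext.mk₀ (ψ ≫ S.g)).comp hS.extClass rfl = 0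
        rw [← Ext.mk₀_comp_mk₀, Ext.comp_assoc _ _ _ (zero_add 0) (zero_add 1) (by omega),
          hS.comp_extClass, Ext.comp_zero]
    · -- higher degrees
      have hiso : ∀ j, 1 ≤ j → IsIso (Δ.δ S hS j (j + 1) rfl) := fun j hj => by
        obtain ⟨q, rfl⟩ : ∃ q, j = q + 1 := ⟨j - 1, by omega⟩
        haveI : Epi (Δ.δ S hS (q + 1) (q + 1 + 1) rfl) :=
          (Δ.exact₁ S hS _ _ rfl).epi_f ((isZero_extS_injective F (q + 1) S.X₂).eq_of_tgt _ _)
        haveI : Mono (Δ.δ S hS (q + 1) (q + 1 + 1) rfl) :=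
          (Δ.exact₃ S hS _ _ rfl).mono_g ((isZero_extS_injective F q S.X₂).eq_of_src _ _)
        exact isIso_of_mono_of_epi _
      let dIso : ∀ j, 1 ≤ j → ((extS F j).obj S.X₃ ≅ (extS F (j + 1)).obj G) := fun j hj =>
        @asIso _ _ _ _ (Δ.δ S hS j (j + 1) rfl) (hiso j hj)
      have hG' : AcBelow F S.X₃ m := fun j hj p hp => by
        rcases Nat.eq_zero_or_pos j with rfl | hj'
        · haveI : Subsingleton (Coh.HH X ((homFunctor F).obj S.X₃) p) :=
            subsingleton_X₂ R hS₂ p (hK p hp) (hG 1 (by omega) p hp)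
          exact (Crv77.hEquiv R (η.app S.X₃) p).toEquiv.subsingleton
        · haveI := hG (j + 1) (by omega) p hp
          exact (Crv77.hEquiv R (dIso j hj') p).toEquiv.subsingleton
      obtain ⟨e⟩ := IH S.X₃ hG'
      obtain ⟨q, rfl⟩ : ∃ q, m = q + 1 := ⟨m - 1, by omega⟩
      haveI : Subsingleton (Ext F S.X₂ (q + 1)) := Ext.subsingleton_of_injective F S.X₂ q
      have hρi : Function.Injective ρ := (injective_iff_map_eq_zero _).mpr fun x hx => by
        obtain ⟨y, rfl⟩ := Ext.covariant_sequence_exact₃ F hS x rfl hx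
        rw [Subsingleton.elim y 0, Ext.zero_comp]
      exact ⟨(LinearEquiv.ofBijective ρ ⟨hρi, hρ⟩).symm.trans (e.trans (Crv77.hEquiv R (dIso (q + 1) hm) 0))⟩

end Groth.Agent.LGlob19
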