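import Groth.Agent.LGlob19.Twist
import Groth.Agent.RB70.SerreVanish
import Groth.Agent.Amp73.PullTensor
import Groth.Agent.Var76.RegTools

/-!
# `Ext^m(F, G(d)) ≅ Γ(𝓔xt^m(F, G(d)))` for `d ≫ 0` on closed subschemes of projective space
-/

universe u

open CategoryTheory Limits AlgebraicGeometry Opposite Abelian

set_option autoImplicit false
set_option maxSynthPendingDepth 6
set_option maxHeartbeats 1000000
set_option synthInstance.maxHeartbeats 800000
set_option backward.isDefEq.respectTransparency.types false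

noncomputable section

namespace Groth.Agent.LGlob19

variable (A : Type u) [CommRing A] [IsNoetherianRing A] (n : ℕ)
  {X : Scheme.{u}} (ι : X ⟶ CohB1.ProjSpace n A) [IsClosedImmersion ι]

/-- `O_X(d)`. -/
abbrev OX (d : ℤ) : X.Modules := (Scheme.Modules.pullback ι).obj (Twist.twistProjSpace n A d)

omit [IsNoetherianRing A] [IsClosedImmersion ι] in
theorem nonempty_OX_inverse (d : ℤ) :
    Nonempty (CohB1.tensorMod (OX A n ι (-d)) (OX A n ι d) ≅ Coh.structureModule X) := by
  obtain ⟨e₁⟩ := Var76.Reg.nonempty_twist_add (n := n) (A := A) (show -d + d = 0 by omega)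
  obtain ⟨e₀⟩ := Var76.Reg.nonempty_twist_zero (n := n) (A := A)
  exact ⟨(@asIso _ _ _ _ (Amp73.pullTensHom ι (Twist.twistProjSpace n A (-d)) (Twist.twistProjSpace n A d))
      (Amp73.isIso_pullTensHom ι (Var76.Reg.isInvertible_twist _) (Var76.Reg.isInvertible_twist _))).symm ≪≫
    (Scheme.Modules.pullback ι).mapIso (e₁ ≪≫ e₀) ≪≫ PicLoc.pullbackStructureIso ι⟩

include A n ι in
theorem isLocallyNoetherian_sub :
    IsLocallyNoetherian X := by
  haveI := Serre71.isProper_projSpace n A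
  haveI : IsLocallyNoetherian (CohB1.ProjSpace n A) :=
    LocallyOfFiniteType.isLocallyNoetherian (CohB1.ProjSpace.toSpec n A)
  exact LocallyOfFiniteType.isLocallyNoetherian ι

variable [HasInjectiveResolutions X.Modules]

/-- The Ext sheaves below a degree are acyclic after a large twist. -/
theorem exists_acBelow {F G : X.Modules} (hF : Coh.IsCoh F) (hG : Coh.IsCoh G) (m : ℕ) :
    ∃ d₀ : ℤ, ∀ d : ℤ, d₀ ≤ d → AcBelow F (CohB1.tensorMod G (OX A n ι d)) m := by
  haveI := isLocallyNoetherian_sub A n ι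
  choose b hb using fun j : ℕ => RB70.exists_vanishing_twist ι _ (isCoh_extS hF hG j)
  have hc : ∀ m, ∃ c : ℤ, ∀ j, j < m → b j ≤ c := fun m => by
    induction m with
    | zero => exact ⟨0, fun j hj => absurd hj (Nat.not_lt_zero j)⟩
    | succ m ih =>
      obtain ⟨c, hc⟩ := ih
      refine ⟨max c (b m), fun j hj => ?_⟩
      rcases (Nat.lt_succ_iff.mp hj).lt_or_eq with h | rfl
      · exact (hc j h).trans (le_max_left _ _)
      · exact le_max_right _ _
  obtain ⟨c, hc⟩ := hc m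
  refine ⟨c, fun d hd j hj p hp => ?_⟩
  obtain ⟨e⟩ := nonempty_OX_inverse A n ι d
  obtain ⟨t⟩ := nonempty_extS_twist e F G j
  let L := OX A n ι d
  let i : (extS F j).obj (CohB1.tensorMod G L) ≅ CohB1.tensorMod ((extS F j).obj G) L :=
    (extS F j).mapIso ((Mod48.tensSymm (O := X.sheaf) L).app G).symm ≪≫ t ≪≫
      (Mod48.tensSymm (O := X.sheaf) L).app ((extS F j).obj G)
  exact ValVan29.subsingleton_hh_of_iso i.symm p (hb j d ((hc j hj).trans hd) p hp)

theorem exists_ext_equiv_sections [X.Over (Spec (CommRingCat.of A))] [HasExt.{u} X.Modules]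
    {F G : X.Modules} (hF : Coh.IsCoh F) (hG : Coh.IsCoh G)
    [ModSite.HasSheafHom (O := X.sheaf) F] [HasInjectiveResolutions (ModSite.Mod X.sheaf)] (m : ℕ) :
    ∃ d₀ : ℕ, ∀ d : ℕ, d₀ ≤ d →
      Nonempty (Ext F (CohB1.tensorMod G (OX A n ι (d : ℤ))) m ≃ₗ[A]
        Coh.HH X ((ModSite.extSh (O := X.sheaf) F m).obj (CohB1.tensorMod G (OX A n ι (d : ℤ)))) 0) := by
  obtain ⟨d₀, hd₀⟩ := exists_acBelow A n ι hF hG m
  refine ⟨d₀.toNat, fun d hd => ?_⟩
  obtain ⟨e⟩ := nonempty_equiv A F m _ (hd₀ d (by omega))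
  obtain ⟨i⟩ := nonempty_extSh_iso F (CohB1.tensorMod G (OX A n ι (d : ℤ))) m
  exact ⟨e.trans (Crv77.hEquiv A i.symm 0)⟩

end Groth.Agent.LGlob19
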