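import Groth.Agent.LGlob19.Main
import Groth.Agent.QC70.ExtCoh
import Groth.Agent.Mod48.Invertible
import Groth.Agent.Mod48.DerivedPrecomp
import Groth.Agent.SiteCoh.ExtRes

/-!
# `𝓔xt^j(F, N ⊗ G) ≅ N ⊗ 𝓔xt^j(F, G)` for invertible `N`, and comparison with the chosen Ext sheaves
-/

universe u

open CategoryTheory Limits AlgebraicGeometry Opposite

set_option autoImplicit false
set_option maxSynthPendingDepth 6
set_option maxHeartbeats 1000000
set_option synthInstance.maxHeartbeats 800000
set_option backward.isDefEq.respectTransparency.types false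

noncomputable section

namespace Groth.Agent.LGlob19

open QC70

variable {X : Scheme.{u}}

theorem nonempty_homFunctor_twist {L N : X.Modules} (e : CohB1.tensorMod L N ≅ Coh.structureModule X)
    (F : X.Modules) :
    ∃ T' : X.Modules ⥤ X.Modules, T'.IsEquivalence ∧ T' = Mod48.tL (O := X.sheaf) N ∧
      Nonempty (T' ⋙ homFunctor F ≅ homFunctor F ⋙ T') := by
  let T : X.Modules ⥤ X.Modules := Mod48.tL (O := X.sheaf) L
  let T' : X.Modules ⥤ X.Modules := Mod48.tL (O := X.sheaf) N
  let a : T' ⋙ T ≅ 𝟭 _ :=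
    (Mod48.tensorCompIso (O := X.sheaf) L N).symm ≪≫ (ModSite.tensorBi X.sheaf).mapIso e ≪≫ Mod48.tensUnit
  let b : T ⋙ T' ≅ 𝟭 _ :=
    (Mod48.tensorCompIso (O := X.sheaf) N L).symm ≪≫
      (ModSite.tensorBi X.sheaf).mapIso (((Mod48.tensSymm (O := X.sheaf) N).app L) ≪≫ e) ≪≫ Mod48.tensUnit
  let E : X.Modules ≌ X.Modules := CategoryTheory.Equivalence.mk T T' b.symm a
  let TF : X.Modules ⥤ X.Modules := Mod48.tL (O := X.sheaf) F
  have adj : T ⊣ T' := E.toAdjunction
  have adjF : TF ⊣ homFunctor F := homModAdjL F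
  -- left adjoints commute
  let c : TF ⋙ T ≅ T ⋙ TF :=
    (Mod48.tensorCompIso (O := X.sheaf) L F).symm ≪≫
      (ModSite.tensorBi X.sheaf).mapIso ((Mod48.tensSymm (O := X.sheaf) L).app F) ≪≫
      Mod48.tensorCompIso (O := X.sheaf) F L
  refine ⟨T', ?_, rfl, ⟨Adjunction.rightAdjointUniq ((adjF.comp adj).ofNatIsoLeft c) (adj.comp adjF)⟩⟩
  exact E.isEquivalence_inverse

variable [HasInjectiveResolutions X.Modules]

/-- Derived functors of isomorphic functors. -/
def rdIso {T T' : X.Modules ⥤ X.Modules} [T.Additive] [T'.Additive] (c : T ≅ T') (j : ℕ) :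
    T.rightDerived j ≅ T'.rightDerived j where
  hom := NatTrans.rightDerived c.hom j
  inv := NatTrans.rightDerived c.inv j
  hom_inv_id := by rw [← NatTrans.rightDerived_comp, c.hom_inv_id, NatTrans.rightDerived_id]
  inv_hom_id := by rw [← NatTrans.rightDerived_comp, c.inv_hom_id, NatTrans.rightDerived_id]

theorem nonempty_extS_twist {L N : X.Modules} (e : CohB1.tensorMod L N ≅ Coh.structureModule X)
    (F G : X.Modules) (j : ℕ) :
    Nonempty ((extS F j).obj (CohB1.tensorMod N G) ≅ CohB1.tensorMod N ((extS F j).obj G)) := by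
  obtain ⟨T', hT', rfl, ⟨c⟩⟩ := nonempty_homFunctor_twist e F
  let T' : X.Modules ⥤ X.Modules := Mod48.tL (O := X.sheaf) N
  haveI : T'.IsEquivalence := hT'
  haveI : (homFunctor F).Additive := (homModAdj F).right_adjoint_additive
  haveI : T'.Additive := Functor.additive_of_preserves_binary_products T'
  have hinj : ∀ I : X.Modules, Injective I → Injective (T'.obj I) := fun I hI =>
    haveI := hI
    Injective.injective_of_adjoint T'.asEquivalence.symm.toAdjunction I
  let e₂ := (Mod48.rightDerivedPrecompIso T' hinj (homFunctor F) j).app G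
  let e₃ := (SiteCoh.rightDerivedCompExactIso (homFunctor F) T' j).app G
  haveI : (T' ⋙ homFunctor F).Additive := inferInstance
  haveI : (homFunctor F ⋙ T').Additive := inferInstance
  let e₁ := (rdIso c j).app G
  exact ⟨e₂.symm ≪≫ e₁ ≪≫ e₃⟩

theorem nonempty_extSh_iso (F G : X.Modules) [ModSite.HasSheafHom (O := X.sheaf) F]
    [HasInjectiveResolutions (ModSite.Mod X.sheaf)] (j : ℕ) :
    Nonempty ((ModSite.extSh (O := X.sheaf) F j).obj G ≅ (extS F j).obj G) := by
  haveI : (homFunctor F).Additive := (homModAdj F).right_adjoint_additive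
  let T : X.Modules ⥤ X.Modules := ModSite.sheafHom (O := X.sheaf) F
  haveI : T.Additive := Functor.additive_of_iso (sheafHomIso' F).symm
  let c : T ≅ homFunctor F := sheafHomIso' F
  exact ⟨(rdIso c j).app G⟩

theorem isCoh_extS [IsLocallyNoetherian X] {F G : X.Modules} (hF : Coh.IsCoh F) (hG : Coh.IsCoh G) (j : ℕ) :
    Coh.IsCoh ((extS F j).obj G) := by
  haveI := hasSheafHom_modSite F
  haveI : HasInjectiveResolutions (ModSite.Mod X.sheaf) := ‹HasInjectiveResolutions X.Modules›
  obtain ⟨e⟩ := nonempty_extSh_iso F G j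
  exact isCoh_of_iso e (isCoh_extSh F G hF hG j)

end Groth.Agent.LGlob19
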