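import Groth.Agent.PDual19.ExtHH
import Groth.Agent.SiteMod.SheafHomAcyclic

/-!
# Degree zero: `Hom(F, G) ≅ H^0(𝓗om(F, G))`, and acyclicity of `𝓗om(F, I)`
-/

universe u

open CategoryTheory Limits AlgebraicGeometry Opposite Abelian

set_option autoImplicit false
set_option maxSynthPendingDepth 6
set_option maxHeartbeats 1000000
set_option synthInstance.maxHeartbeats 800000
set_option backward.isDefEq.respectTransparency.types false

noncomputable section

namespace Groth.Agent.LGlob19

open QC70

variable {X : Scheme.{u}} [HasExt.{u} X.Modules] (R : Type u) [CommRing R]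
  [X.Over (Spec (CommRingCat.of R))] (F : X.Modules)

/-- A morphism out of `O` as a class in degree zero. -/
def ofUnit (N : X.Modules) : (unitMod X ⟶ N) →+ Coh.HH X N 0 :=
  (SiteMod.unitExtEquiv (J := Opens.grothendieckTopology X) X.ringCatSheaf N 0).toAddMonoidHom.comp
    (Ext.addEquiv₀ (X := unitMod X) (Y := N)).symm.toAddMonoidHom

theorem ofUnit_comp {N N' : X.Modules} (θ : unitMod X ⟶ N) (g : N ⟶ N') :
    ofUnit N' (θ ≫ g) = Crv77.hmap R g 0 (ofUnit N θ) :=
  (congrArg (SiteMod.unitExtEquiv (J := Opens.grothendieckTopology X) X.ringCatSheaf N' 0)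
    (Ext.mk₀_comp_mk₀ θ g).symm).trans
    (PDual19.unitExtEquiv_naturality X.ringCatSheaf g 0 (Ext.mk₀ θ))

/-- The map `φ ↦ 𝓗om(F, φ)(id)` on cohomology in degree zero. -/
def secZero (G : X.Modules) (φ : F ⟶ G) : Coh.HH X (homMod F G) 0 :=
  ofUnit (homMod F G) (idSec F ≫ homMap F φ)

theorem bijective_secZero (G : X.Modules) : Function.Bijective (secZero F G) :=
  (SiteMod.unitExtEquiv (J := Opens.grothendieckTopology X) X.ringCatSheaf (homMod F G) 0).bijective.comp
    ((Ext.mk₀_bijective (unitMod X) (homMod F G)).comp (bijective_idSec_comp F G))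

theorem secZero_comp {G G' : X.Modules} (φ : F ⟶ G) (g : G ⟶ G') :
    secZero F G' (φ ≫ g) = Crv77.hmap R ((homFunctor F).map g) 0 (secZero F G φ) := by
  have h : idSec F ≫ homMap F (φ ≫ g) = (idSec F ≫ homMap F φ) ≫ homMap F g := by
    rw [Category.assoc]
    exact congrArg (idSec F ≫ ·) ((homFunctor F).map_comp φ g)
  unfold secZero
  exact (congrArg (ofUnit _) h).trans (ofUnit_comp R _ (homMap F g))

theorem secZero_smul {G : X.Modules} (a : R) (φ : F ⟶ G) :
    secZero F G (a • φ) = a • secZero F G φ := by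
  have h : a • φ = φ ≫ Formal.smulMod R G a := by
    rw [← KLin.smul_id, Linear.comp_smul, Category.comp_id]
  rw [h, secZero_comp R F φ]
  change Crv77.hmap R (homMap F (Formal.smulModΓ G _)) 0 _ = _
  rw [PDual19.homMap_smulModΓ]
  rfl

/-- `Hom(F, G) ≅ H^0(𝓗om(F, G))`. -/
def e₀ (G : X.Modules) : (F ⟶ G) ≃ₗ[R] Coh.HH X (homMod F G) 0 :=
  LinearEquiv.ofBijective
    { toFun := secZero F G
      map_add' := fun φ ψ => by
        haveI : (homFunctor F).Additive := (homModAdj F).right_adjoint_additive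
        have h : homMap F (φ + ψ) = homMap F φ + homMap F ψ := (homFunctor F).map_add
        unfold secZero
        exact (congrArg (ofUnit _) ((congrArg (idSec F ≫ ·) h).trans (Preadditive.comp_add _ _ _ _ _ _))).trans (map_add _ _ _)
      map_smul' := secZero_smul R F }
    (bijective_secZero F G)

theorem e₀_comp {G G' : X.Modules} (φ : F ⟶ G) (g : G ⟶ G') :
    e₀ R F G' (φ ≫ g) = Crv77.hmap R ((homFunctor F).map g) 0 (e₀ R F G φ) :=
  secZero_comp R F φ g

omit [HasExt.{u} X.Modules] in
include R in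
/-- `𝓗om(F, I)` is acyclic for injective `I`. -/
theorem subsingleton_hh_homMod (I : X.Modules) [Injective I] {p : ℕ} (hp : 0 < p) :
    Subsingleton (Coh.HH X (homMod F I) p) := by
  obtain ⟨q, rfl⟩ : ∃ q, p = q + 1 := ⟨p - 1, by omega⟩
  haveI := hasSheafHom_modSite F
  haveI : Injective (C := ModSite.Mod X.sheaf) I := ‹Injective I›
  have h : SiteCoh.TorExtends (ModSite.toAb ((ModSite.sheafHom (O := X.sheaf) F).obj I)) :=
    SiteMod.torExtends_sheafHom F I
  haveI : Subsingleton (Coh.HH X ((ModSite.sheafHom (O := X.sheaf) F).obj I) (q + 1)) :=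
    SiteCoh.ext_subsingleton_of_torExtends h q _ SiteMod.torFree_constantSheaf
  exact (Crv77.hEquiv R ((sheafHomIso' F).app I) (q + 1)).symm.toEquiv.subsingleton

end Groth.Agent.LGlob19
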